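import Cfsg.Agent.H950.L16.GOne
import Cfsg.Agent.H950.L16.GThree
import Cfsg.Agent.H939.L64.DefT
import Cfsg.Agent.H939.L64.Data
import Cfsg.Agent.LieClassical.FieldTransfer

/-!
# S5916 (`L₂(16)` in `E₈(2)`), helper950: the group-theoretic frame

`Dat ι lam y ζ`, `exists_dat` (with the involution `t0` inverting `y`), `Sit H f y` and `exists_sit`.
-/

set_option autoImplicit false
set_option maxRecDepth 100000

namespace Cfsg.Agent.H950.L16

open Matrix Cfsg
open Cfsg.Agent.H939.L64 (KK E2 mem_range two_KK add_KK pow_vec)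

/-- the data: a generator `lam` of the split torus, `y` of order 17 with the eigenvalues `ζ, ζ⁻¹` -/
structure Dat {k F : Type*} [Field k] [Field F] [Fintype F] (ι : F →+* k) (lam : Fˣ)
    (y : SpecialLinearGroup (Fin 2) F) (ζ : k) : Prop where
  card : Fintype.card F = 16
  gen : ∀ x, x ∈ Subgroup.zpowers lam
  prim : IsPrimitiveRoot ζ 17
  tr : ι (y.1 0 0 + y.1 1 1) = ζ + ζ⁻¹

variable {F : Type} [Field F] [Fintype F]

theorem two_eq_zero (hF : Fintype.card F = 16) : (2 : F) = 0 := by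
  have h1 : ((16 : ℕ) : F) = 0 := by rw [← hF]; exact Nat.cast_card_eq_zero F
  have h2 : (2 : F) ^ 4 = 0 := by rw [← h1]; norm_num
  exact pow_eq_zero_iff (by norm_num) |>.1 h2

theorem center_bot (hF : Fintype.card F = 16) : Subgroup.center (SpecialLinearGroup (Fin 2) F) = ⊥ := by
  have h2 := two_eq_zero hF
  rw [Subgroup.eq_bot_iff_forall]
  intro A hA
  exact sl_center16 hF hA

theorem exists_iota (hF : Fintype.card F = 16) : Nonempty (F →+* KK) := by
  classical
  have := charP_two hF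
  let _ : Algebra (ZMod 2) F := ZMod.algebra F 2
  have : Algebra.IsAlgebraic (ZMod 2) F := Algebra.IsAlgebraic.of_finite (ZMod 2) F
  exact ⟨(IsAlgClosed.lift (R := ZMod 2) (M := KK) (S := F)).toRingHom⟩

theorem exists_equiv (hF : Fintype.card F = 16) {X : Type} [Group X] (e : X ≃* ProjectiveSpecialLinearGroup (Fin 2) F) :
    Nonempty (SpecialLinearGroup (Fin 2) F ≃* X) := by
  have h1 : Function.Bijective (QuotientGroup.mk' (Subgroup.center (SpecialLinearGroup (Fin 2) F))) := by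
    constructor
    · rw [← MonoidHom.ker_eq_bot_iff, QuotientGroup.ker_mk', center_bot hF]
    · exact QuotientGroup.mk'_surjective _
  exact ⟨(MulEquiv.ofBijective (QuotientGroup.mk' (Subgroup.center (SpecialLinearGroup (Fin 2) F))) h1).trans e.symm⟩

/-- the homomorphism and the automorphisms -/
theorem exists_f (hF : Fintype.card F = 16) {G : Type} [Group G] (H : Subgroup G)
    (e : ↥(generalizedFittingSubgroup ↥H) ≃* ProjectiveSpecialLinearGroup (Fin 2) F) :
    ∃ f : SpecialLinearGroup (Fin 2) F →* ↥H, Function.Injective f ∧ f.range = generalizedFittingSubgroup ↥H ∧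
      ∀ h : ↥H, ∃ τ : SpecialLinearGroup (Fin 2) F ≃* SpecialLinearGroup (Fin 2) F, ∀ s, f (τ s) = h * f s * h⁻¹ := by
  obtain ⟨E⟩ := exists_equiv hF e
  have hn : (generalizedFittingSubgroup ↥H).Normal := Lib.GenFitting.genFitting_normal
  refine ⟨(generalizedFittingSubgroup ↥H).subtype.comp E.toMonoidHom,
    (Subgroup.subtype_injective _).comp E.injective, ?_, fun h => ?_⟩
  · rw [MonoidHom.range_comp, MonoidHom.range_eq_top.2 E.surjective, ← MonoidHom.range_eq_map, Subgroup.range_subtype]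
  · refine ⟨(E.trans (MulAut.conjNormal h)).trans E.symm, fun s => ?_⟩
    show ((E (E.symm (MulAut.conjNormal h (E s))) : ↥(generalizedFittingSubgroup ↥H)) : ↥H) = _
    rw [MulEquiv.apply_symm_apply, MulAut.conjNormal_apply]
    rfl

/-- the situation -/
structure Sit (H : Subgroup E2) (f : SpecialLinearGroup (Fin 2) F →* E2) (y : SpecialLinearGroup (Fin 2) F) : Prop where
  co : IsCoatom H
  inj : Function.Injective f
  le : ∀ s, f s ∈ H
  nor : ∀ h ∈ H, ∃ τ : SpecialLinearGroup (Fin 2) F ≃* SpecialLinearGroup (Fin 2) F, ∀ s, f (τ s) = h * f s * h⁻¹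
  ord : orderOf y = 17
  cen : ∀ g ∈ H, Commute g (f y) → g ∈ Subgroup.zpowers (f y)
  con : ∀ h ∈ H, ∃ (s : SpecialLinearGroup (Fin 2) F) (i : ℤ), h * f y * h⁻¹ = f s * f y ^ i * (f s)⁻¹
  /-- only the identity of `H` centralises the socle -/
  tri : ∀ g ∈ H, (∀ s, Commute g (f s)) → g = 1

theorem exists_sit' (hF : Fintype.card F = 16) {G : Type} [Group G] [Finite G] (H : Subgroup G)
    (e : ↥(generalizedFittingSubgroup ↥H) ≃* ProjectiveSpecialLinearGroup (Fin 2) F)
    {y : SpecialLinearGroup (Fin 2) F} (hord : orderOf y = 17) :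
    ∃ f : SpecialLinearGroup (Fin 2) F →* G, Function.Injective f ∧ (∀ s, f s ∈ H) ∧
      (∀ h ∈ H, ∃ τ : SpecialLinearGroup (Fin 2) F ≃* SpecialLinearGroup (Fin 2) F, ∀ s, f (τ s) = h * f s * h⁻¹) ∧
      (∀ g ∈ H, Commute g (f y) → g ∈ Subgroup.zpowers (f y)) ∧
      (∀ h ∈ H, ∃ (s : SpecialLinearGroup (Fin 2) F) (i : ℤ), h * f y * h⁻¹ = f s * f y ^ i * (f s)⁻¹) ∧
      ∀ g ∈ H, (∀ s, Commute g (f s)) → g = 1 := by
  obtain ⟨f, hf, hr, hn⟩ := exists_f hF H e
  have hmem : ∀ s, f s ∈ generalizedFittingSubgroup ↥H := fun s => by rw [← hr]; exact ⟨s, rfl⟩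
  have hord' : orderOf (f y) = 17 := by rw [orderOf_injective f hf, hord]
  refine ⟨H.subtype.comp f, (Subgroup.subtype_injective H).comp hf, fun s => (f s).2, fun h hh => ?_,
    fun g hg hc => ?_, fun h hh => ?_, fun g hg hc => ?_⟩
  · obtain ⟨τ, hτ⟩ := hn ⟨h, hh⟩
    exact ⟨τ, fun s => congrArg Subtype.val (hτ s)⟩
  · have hc' : Commute (⟨g, hg⟩ : ↥H) (f y) := Subtype.ext hc.eq
    have h1 := G1 hF H e (f y) (hmem y) hord' ⟨g, hg⟩ hc'
    obtain ⟨i, hi⟩ := Subgroup.mem_zpowers_iff.1 h1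
    exact Subgroup.mem_zpowers_iff.2 ⟨i, congrArg Subtype.val hi⟩
  · obtain ⟨s, hs, i, hi⟩ := G3 hF H e (f y) (hmem y) hord' ⟨h, hh⟩
    rw [← hr] at hs
    obtain ⟨s', rfl⟩ := hs
    exact ⟨s', i, congrArg Subtype.val hi⟩
  · have h1 : (⟨g, hg⟩ : ↥H) ∈ generalizedFittingSubgroup ↥H := by
      apply Cfsg.Agent.Lib.GenFitting.centralizer_genFitting_le
      rw [Subgroup.mem_centralizer_iff]
      intro s hs
      rw [SetLike.mem_coe, ← hr] at hs
      obtain ⟨s', rfl⟩ := hs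
      exact Subtype.ext (hc s').eq.symm
    rw [← hr] at h1
    obtain ⟨z, hz⟩ := h1
    have h2 : z ∈ Subgroup.center (SpecialLinearGroup (Fin 2) F) := by
      rw [Subgroup.mem_center_iff]
      intro s
      apply hf
      rw [map_mul, map_mul, hz]
      exact Subtype.ext (hc s).eq.symm
    have h3 := sl_center16 hF h2
    rw [h3, map_one] at hz
    exact (congrArg Subtype.val hz).symm

theorem exists_sit (hF : Fintype.card F = 16) {H : Subgroup E2} (hco : IsCoatom H)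
    (e : ↥(generalizedFittingSubgroup ↥H) ≃* ProjectiveSpecialLinearGroup (Fin 2) F)
    {y : SpecialLinearGroup (Fin 2) F} (hord : orderOf y = 17) :
    ∃ f : SpecialLinearGroup (Fin 2) F →* E2, Sit H f y := by
  obtain ⟨f, h1, h2, h3, h4, h5, h6⟩ := exists_sit' hF H e hord
  exact ⟨f, hco, h1, h2, h3, hord, h4, h5, h6⟩

/-- the element of order 17 -/
def yy (hF : Fintype.card F = 16) (c : F) : SpecialLinearGroup (Fin 2) F :=
  ⟨!![0, 1; 1, c], by
    rw [Matrix.det_fin_two_of, zero_mul, zero_sub, one_mul]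
    have h := two_eq_zero hF
    have h1 : (1 : F) + 1 = 0 := by rw [one_add_one_eq_two, h]
    exact neg_eq_of_add_eq_zero_left h1⟩

theorem yy_vec (hF : Fintype.card F = 16) (ι : F →+* KK) {c : F} {ζ : KK} (h0 : ζ ≠ 0) (hc : ι c = ζ + ζ⁻¹) :
    ((yy hF c : Matrix (Fin 2) (Fin 2) F).map ι) *ᵥ ![1, ζ] = ζ • ![1, ζ] := by
  ext i
  fin_cases i
  · simp [yy, Matrix.mulVec, dotProduct, Fin.sum_univ_two]
  · simp only [yy, Matrix.mulVec, dotProduct, Fin.sum_univ_two, Matrix.map_apply]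
    simp [hc]
    have h1 : (1 : KK) + (ζ + ζ⁻¹) * ζ = (1 + 1) + ζ * ζ := by
      rw [add_mul, inv_mul_cancel₀ h0]; ring
    rw [h1, add_KK, zero_add]

theorem orderOf_yy (hF : Fintype.card F = 16) (ι : F →+* KK) {c : F} {ζ : KK} (hζ : IsPrimitiveRoot ζ 17)
    (hc : ι c = ζ + ζ⁻¹) : orderOf (yy hF c) = 17 := by
  have h0 : ζ ≠ 0 := hζ.ne_zero (by norm_num)
  have e1 := yy_vec hF ι h0 hc
  have e2 := yy_vec hF ι (inv_ne_zero h0) (show ι c = ζ⁻¹ + ζ⁻¹⁻¹ by rw [hc, inv_inv, add_comm])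
  have hmap : ∀ n : ℕ, (((yy hF c ^ n : SpecialLinearGroup (Fin 2) F) : Matrix (Fin 2) (Fin 2) F).map ι) = ((yy hF c : Matrix (Fin 2) (Fin 2) F).map ι) ^ n := by
    intro n
    exact map_pow ι.mapMatrix (yy hF c : Matrix (Fin 2) (Fin 2) F) n
  have hne : ζ ≠ ζ⁻¹ := by
    intro h
    have h1 : ζ ^ 2 = 1 := by
      rw [pow_two]
      nth_rw 2 [h]
      exact mul_inv_cancel₀ h0
    have := (hζ.pow_eq_one_iff_dvd 2).1 h1
    omega
  have h17 : yy hF c ^ 17 = 1 := by
    have a1 := pow_vec e1 17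
    have a2 := pow_vec e2 17
    rw [hζ.pow_eq_one, one_smul] at a1
    rw [inv_pow, hζ.pow_eq_one, inv_one, one_smul] at a2
    have hN : ((yy hF c : Matrix (Fin 2) (Fin 2) F).map ι) ^ 17 = 1 := by
      ext i j
      have b1 := congrFun a1 i
      have b2 := congrFun a2 i
      simp only [Matrix.mulVec, dotProduct, Fin.sum_univ_two, Matrix.cons_val_zero, Matrix.cons_val_one, mul_one] at b1 b2
      have h7 : (((yy hF c : Matrix (Fin 2) (Fin 2) F).map ι) ^ 17) i 1 * (ζ - ζ⁻¹) = (![1, ζ] : Fin 2 → KK) i - (![1, ζ⁻¹] : Fin 2 → KK) i := by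
        rw [← b1, ← b2]; ring
      have hd : ζ - ζ⁻¹ ≠ 0 := sub_ne_zero.2 hne
      fin_cases i
      · have h8 : (((yy hF c : Matrix (Fin 2) (Fin 2) F).map ι) ^ 17) 0 1 = 0 := by
          have : (((yy hF c : Matrix (Fin 2) (Fin 2) F).map ι) ^ 17) 0 1 * (ζ - ζ⁻¹) = 0 := by rw [← sub_self (1 : KK)]; exact h7
          exact (mul_eq_zero.1 this).resolve_right hd
        fin_cases j
        · have : (((yy hF c : Matrix (Fin 2) (Fin 2) F).map ι) ^ 17) 0 0 + (((yy hF c : Matrix (Fin 2) (Fin 2) F).map ι) ^ 17) 0 1 * ζ = 1 := b1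
          rw [h8, zero_mul, add_zero] at this
          exact this
        · exact h8
      · have h8 : (((yy hF c : Matrix (Fin 2) (Fin 2) F).map ι) ^ 17) 1 1 = 1 := by
          have : (((yy hF c : Matrix (Fin 2) (Fin 2) F).map ι) ^ 17) 1 1 * (ζ - ζ⁻¹) = 1 * (ζ - ζ⁻¹) := by rw [one_mul]; exact h7
          exact mul_right_cancel₀ hd this
        fin_cases j
        · have : (((yy hF c : Matrix (Fin 2) (Fin 2) F).map ι) ^ 17) 1 0 + (((yy hF c : Matrix (Fin 2) (Fin 2) F).map ι) ^ 17) 1 1 * ζ = ζ := b1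
          rw [h8, one_mul] at this
          exact add_eq_right.1 this
        · exact h8
    rw [← hmap] at hN
    apply Subtype.ext
    apply Matrix.map_injective ι.injective
    refine hN.trans ?_
    exact (Matrix.map_one ι (map_zero ι) (map_one ι)).symm
  refine Nat.dvd_antisymm (orderOf_dvd_of_pow_eq_one h17) ?_
  have h1 := pow_vec e1 (orderOf (yy hF c))
  rw [← hmap, pow_orderOf_eq_one] at h1
  have h2 := congrFun h1 0
  simp [Matrix.mulVec, dotProduct, Fin.sum_univ_two] at h2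
  exact (hζ.pow_eq_one_iff_dvd _).1 h2.symm

/-- the involution inverting `yy` -/
def tt (hF : Fintype.card F = 16) : SpecialLinearGroup (Fin 2) F := yy hF 0

theorem tt_mul (hF : Fintype.card F = 16) : tt hF * tt hF = 1 := by
  apply Subtype.ext
  show (!![0, 1; 1, 0] : Matrix (Fin 2) (Fin 2) F) * !![0, 1; 1, 0] = 1
  ext i j
  fin_cases i <;> fin_cases j <;> simp [Matrix.mul_apply, Fin.sum_univ_two]

theorem tt_ne (hF : Fintype.card F = 16) : tt hF ≠ 1 := by
  intro h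
  have h1 := congrArg (fun g : SpecialLinearGroup (Fin 2) F => g.1 0 0) h
  have h2 : (0 : F) = 1 := h1
  exact zero_ne_one h2

theorem tt_yy (hF : Fintype.card F = 16) (c : F) : tt hF * yy hF c * tt hF = (yy hF c)⁻¹ := by
  have h2 := two_eq_zero hF
  have hn : ∀ x : F, -x = x := fun x => by
    have : x + x = 0 := by rw [← two_mul, h2, zero_mul]
    exact neg_eq_of_add_eq_zero_left this
  rw [eq_inv_iff_mul_eq_one]
  apply Subtype.ext
  show (!![0, 1; 1, 0] : Matrix (Fin 2) (Fin 2) F) * !![0, 1; 1, c] * !![0, 1; 1, 0] * !![0, 1; 1, c] = 1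
  ext i j
  fin_cases i <;> fin_cases j <;> simp [Matrix.mul_apply, Fin.sum_univ_two, ← two_mul, h2]

/-- **the data exist** -/
theorem exists_dat (hF : Fintype.card F = 16) : ∃ (ι : F →+* KK) (lam : Fˣ) (y t0 : SpecialLinearGroup (Fin 2) F) (ζ : KK),
    Dat ι lam y ζ ∧ orderOf y = 17 ∧ t0 * t0 = 1 ∧ t0 ≠ 1 ∧ t0 * y * t0 = y⁻¹ := by
  have := charP_two hF
  obtain ⟨ι⟩ := exists_iota hF
  obtain ⟨lam, hl⟩ := IsCyclic.exists_generator (α := Fˣ)
  obtain ⟨ζ, hζ⟩ := Cfsg.Agent.H939.L64.exists_zeta 17 (by decide)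
  have h0 : ζ ≠ 0 := hζ.ne_zero (by norm_num)
  have h16 : ζ ^ 16 = ζ⁻¹ := by
    apply eq_inv_of_mul_eq_one_left
    rw [← pow_succ]
    exact hζ.pow_eq_one
  obtain ⟨c, hc⟩ := mem_range ι (c := ζ + ζ⁻¹) (by
    have : (16 : ℕ) = 2 ^ 4 := by norm_num
    rw [hF, this, add_pow_char_pow, ← this, h16, inv_pow, h16, inv_inv, add_comm])
  refine ⟨ι, lam, yy hF c, tt hF, ζ, ⟨hF, hl, hζ, ?_⟩, orderOf_yy hF ι hζ hc, tt_mul hF, tt_ne hF, tt_yy hF c⟩
  show ι ((!![0, 1; 1, c] : Matrix (Fin 2) (Fin 2) F) 0 0 + (!![0, 1; 1, c] : Matrix (Fin 2) (Fin 2) F) 1 1) = _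
  simp [hc]

/-- the statement for `F : Type` implies the statement for all universes -/
theorem main_of (h0 : ∀ {F : Type} [Field F] [Fintype F], Fintype.card F = 16 → ∀ H : Subgroup E2,
    (↥(generalizedFittingSubgroup ↥H) ≃* ProjectiveSpecialLinearGroup (Fin 2) F) → ¬ IsCoatom H)
    {F : Type*} [Field F] [Fintype F] (hF : Fintype.card F = 16) (H : Subgroup E2)
    (hH : Nonempty (↥(generalizedFittingSubgroup ↥H) ≃* ProjectiveSpecialLinearGroup (Fin 2) F)) : ¬ IsCoatom H := by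
  classical
  obtain ⟨e⟩ := hH
  have : Fintype (GaloisField 2 4) := Fintype.ofFinite _
  have h16 : Fintype.card (GaloisField 2 4) = 16 := by
    rw [← Nat.card_eq_fintype_card, GaloisField.card 2 4 (by norm_num)]
    norm_num
  exact h0 h16 H (e.trans (Cfsg.Agent.LieClassical.FieldTransfer.pslCongr
    (FiniteField.ringEquivOfCardEq (hF.trans h16.symm))))

/-- **the frame of the proof**: a contradiction from the situation proves S5916 (for `F : Type`) -/
theorem main_sit (h0 : ∀ {F : Type} [Field F] [Fintype F] (H : Subgroup E2) (f : SpecialLinearGroup (Fin 2) F →* E2)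
    (ι : F →+* KK) (lam : Fˣ) (y t0 : SpecialLinearGroup (Fin 2) F) (ζ : KK), Dat ι lam y ζ → t0 * t0 = 1 → t0 ≠ 1 →
      t0 * y * t0 = y⁻¹ → Sit H f y → False)
    {F : Type} [Field F] [Fintype F] (hF : Fintype.card F = 16) (H : Subgroup E2)
    (e : ↥(generalizedFittingSubgroup ↥H) ≃* ProjectiveSpecialLinearGroup (Fin 2) F) : ¬ IsCoatom H := by
  intro hco
  obtain ⟨ι, lam, y, t0, ζ, D, hord, ht1, ht2, ht3⟩ := exists_dat hF
  obtain ⟨f, S⟩ := exists_sit hF hco e hord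
  exact h0 H f ι lam y t0 ζ D ht1 ht2 ht3 S

end Cfsg.Agent.H950.L16
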